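import Groth.Agent.RatliffLib.Equidim
import Groth.Agent.RegLocal.Basic
import Groth.Agent.RegLocal.Consequences
import Groth.Agent.RegLocLib.Basic
import Groth.Agent.CyclicRootLib.Regular
import Groth.Prelude.Def_Found

/-!
# Regularity along flat maps and smooth maps
-/

set_option autoImplicit false
set_option backward.isDefEq.respectTransparency false
set_option maxHeartbeats 1000000
universe u

open IsLocalRing TensorProduct

namespace Groth.Agent.RegHomLib

/-- A flat local algebra over a regular local ring with regular closed fibre is regular. -/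
theorem isRegularLocalRing_of_fibre (R S : Type u) [CommRing R] [IsRegularLocalRing R] [CommRing S]
    [IsLocalRing S] [IsNoetherianRing S] [Algebra R S] [IsLocalHom (algebraMap R S)] [Module.Flat R S]
    [IsRegularLocalRing (S ⧸ (maximalIdeal R).map (algebraMap R S))] : IsRegularLocalRing S := by
  classical
  set J := (maximalIdeal R).map (algebraMap R S)
  obtain ⟨x, hx⟩ := RegLocal.exists_generators (R := R)
  obtain ⟨y, hy⟩ := RegLocal.exists_generators (R := S ⧸ J)
  choose z hz using fun i => Ideal.Quotient.mk_surjective (y i)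
  let gens := Set.range (algebraMap R S ∘ x) ∪ Set.range z
  have hspan : Ideal.span gens = maximalIdeal S := by
    rw [Ideal.span_union, Set.range_comp, ← Ideal.map_span, hx]
    have h1 : (Ideal.span (Set.range z)).map (Ideal.Quotient.mk J) = maximalIdeal (S ⧸ J) := by
      rw [Ideal.map_span, ← Set.range_comp, show Ideal.Quotient.mk J ∘ z = y from funext hz, hy]
    have h2 := congrArg (Ideal.comap (Ideal.Quotient.mk J)) h1
    rw [Ideal.comap_map_of_surjective _ Ideal.Quotient.mk_surjective, ← RingHom.ker_eq_comap_bot,
      Ideal.mk_ker, sup_comm] at h2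
    rw [h2]
    haveI : IsLocalHom (Ideal.Quotient.mk J) := Ideal.Quotient.mk_surjective.isLocalHom _
    exact ((local_hom_TFAE (Ideal.Quotient.mk J)).out 0 4 rfl rfl).mp inferInstance
  apply IsRegularLocalRing.of_spanFinrank_maximalIdeal_le
  rw [RatliffLib.dim_flat_local (A := R) (A' := S), ← IsRegularLocalRing.spanFinrank_maximalIdeal (R := R),
    ← IsRegularLocalRing.spanFinrank_maximalIdeal (R := S ⧸ J)]
  have hfin : gens.Finite := (Set.finite_range _).union (Set.finite_range _)
  have h : (maximalIdeal S).spanFinrank ≤ (maximalIdeal R).spanFinrank + (maximalIdeal (S ⧸ J)).spanFinrank := by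
    rw [← hspan]
    refine (Submodule.spanFinrank_span_le_ncard_of_finite hfin).trans
      ((Set.ncard_union_le _ _).trans (add_le_add ?_ ?_))
    all_goals
      rw [← Nat.card_coe_set_eq]
      exact (Finite.card_range_le _).trans_eq (by simp)
  exact_mod_cast h

/-- A flat algebra over a regular ring with regular fibres is regular. -/
theorem isRegularRing_of_fibres (R S : Type u) [CommRing R] [IsRegularRing R] [CommRing S]
    [IsNoetherianRing S] [Algebra R S] [Module.Flat R S]
    (h : ∀ (p : Ideal R) [p.IsPrime], IsRegularRing (p.Fiber S)) : IsRegularRing S := by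
  refine isRegularRing_iff.2 fun q hq => ?_
  let p := q.comap (algebraMap R S)
  haveI : q.LiesOver p := ⟨rfl⟩
  haveI := h p
  let e := PrimeSpectrum.preimageEquivFiber R S ⟨p, inferInstance⟩
  let Q := e ⟨⟨q, hq⟩, rfl⟩
  have hQ : Q.asIdeal.comap (Algebra.TensorProduct.includeRight : S →ₐ[R] p.Fiber S) = q := by
    have := congrArg (fun x => x.1.asIdeal) (e.symm_apply_apply ⟨⟨q, hq⟩, rfl⟩)
    exact this
  haveI := IsRegularRing.isRegularLocalRing_localization (R := p.Fiber S) Q.asIdeal
  set r := Q.asIdeal.comap (Algebra.TensorProduct.includeRight : S →ₐ[R] p.Fiber S) with hr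
  haveI : r.IsPrime := Ideal.IsPrime.comap _
  suffices IsRegularLocalRing (Localization.AtPrime r) by
    exact (show ∀ (I : Ideal S) (_ : I.IsPrime), I = r → IsRegularLocalRing (Localization.AtPrime I) from
      fun I _ e => by subst e; exact this) q hq hQ.symm
  haveI : r.LiesOver p := ⟨hQ ▸ rfl⟩
  letI : Algebra (Localization.AtPrime p) (Localization.AtPrime r) := Localization.AtPrime.algebraOfLiesOver p r
  haveI := Localization.isLocalHom_localRingHom p r (algebraMap R S) (Ideal.over_def r p)
  haveI : IsLocalHom (algebraMap (Localization.AtPrime p) (Localization.AtPrime r)) := this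
  haveI := IsRegularRing.isRegularLocalRing_localization (R := R) p
  haveI : IsNoetherianRing (Localization.AtPrime r) := IsLocalization.isNoetherianRing r.primeCompl _ inferInstance
  have e2 := Ideal.Fiber.localizationAlgEquivQuotient p Q.asIdeal
  have hmap : p.map (algebraMap R (Localization.AtPrime r)) =
      (maximalIdeal (Localization.AtPrime p)).map (algebraMap (Localization.AtPrime p) (Localization.AtPrime r)) := by
    rw [← Localization.AtPrime.map_eq_maximalIdeal, Ideal.map_map, ← IsScalarTower.algebraMap_eq]
  let e3 := e2.toRingEquiv.trans (Ideal.quotEquivOfEq hmap)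
  haveI : IsRegularLocalRing (Localization.AtPrime r ⧸
      (maximalIdeal (Localization.AtPrime p)).map (algebraMap (Localization.AtPrime p) (Localization.AtPrime r))) := by
    refine IsRegularLocalRing.of_ringEquiv (R := Localization.AtPrime Q.asIdeal) ?_
    exact e3
  exact isRegularLocalRing_of_fibre (Localization.AtPrime p) (Localization.AtPrime r)

theorem isRegularRing_of_standardSmooth (R S : Type u) [CommRing R] [IsRegularRing R] [CommRing S] [Algebra R S]
    [Algebra.IsStandardSmooth R S] : IsRegularRing S := by
  obtain ⟨n, g, -, hg⟩ := RingHom.IsStandardSmooth.exists_etale_mvPolynomial (f := algebraMap R S)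
    (RingHom.isStandardSmooth_algebraMap.2 inferInstance)
  algebraize [g]
  exact CyclicRootLib.isRegularRing_of_etale (MvPolynomial (Fin n) R) S

/-- A smooth algebra over a regular ring is regular. -/
theorem isRegularRing_of_smooth (R S : Type u) [CommRing R] [IsRegularRing R] [CommRing S] [Algebra R S]
    [Algebra.Smooth R S] : IsRegularRing S := by
  haveI : IsNoetherianRing S := Algebra.FiniteType.isNoetherianRing R S
  obtain ⟨s, hs, hstd⟩ := Algebra.Smooth.exists_span_eq_top_isStandardSmooth R S
  refine isRegularRing_iff.2 fun q hq => ?_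
  obtain ⟨f, hf, hfq⟩ : ∃ f ∈ s, f ∉ q := by
    by_contra hcon
    push Not at hcon
    exact hq.ne_top (top_le_iff.1 (hs ▸ Ideal.span_le.2 hcon))
  haveI := hstd f hf
  haveI := isRegularRing_of_standardSmooth R (Localization.Away f)
  have hdisj : Disjoint (Submonoid.powers f : Set S) (q : Set S) :=
    Set.disjoint_left.2 fun x ⟨k, hk⟩ hx => by subst hk; exact hfq (hq.mem_of_pow_mem k hx)
  let Q : PrimeSpectrum (Localization.Away f) := ⟨q.map (algebraMap S _),
    IsLocalization.isPrime_of_isPrime_disjoint (Submonoid.powers f) _ q hq hdisj⟩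
  have h1 := (RegLocLib.mem_regLocus_iff_of_isLocalization (Submonoid.powers f) Q).1
    (@IsRegularRing.isRegularLocalRing_localization _ _ _ Q.asIdeal Q.isPrime)
  have h2 : PrimeSpectrum.comap (algebraMap S (Localization.Away f)) Q = ⟨q, hq⟩ :=
    PrimeSpectrum.ext (IsLocalization.under_map_of_isPrime_disjoint (Submonoid.powers f) _ hq hdisj)
  rw [h2] at h1
  exact h1

/-- Base change of a regular map along a quasi-finite map into a regular ring. -/
theorem isRegularRing_baseChange (B C B0 : Type u) [CommRing B] [CommRing C] [CommRing B0] [Algebra B C]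
    [Algebra B B0] [Algebra.QuasiFinite B B0] [IsRegularRing B0] (h : CAlg.IsRegularHom B C)
    [IsNoetherianRing (B0 ⊗[B] C)] : IsRegularRing (B0 ⊗[B] C) := by
  haveI := h.1
  refine isRegularRing_of_fibres B0 (B0 ⊗[B] C) fun Q _ => ?_
  let P := Q.under B
  letI := Localization.AtPrime.algebraOfLiesOver P Q
  haveI : IsRegularRing (Q.ResidueField ⊗[P.ResidueField] (P.Fiber C)) := (h.2 P).2 Q.ResidueField inferInstance
  exact IsRegularRing.of_ringEquiv (R := Q.ResidueField ⊗[P.ResidueField] (P.Fiber C))
    ((Algebra.TensorProduct.cancelBaseChange B P.ResidueField Q.ResidueField Q.ResidueField C).trans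
      (Algebra.TensorProduct.cancelBaseChange B B0 Q.ResidueField Q.ResidueField C).symm).toRingEquiv

end Groth.Agent.RegHomLib
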