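import Groth.Agent.RegHomLib.Geometric

/-!
# Regular maps are local on the source and target
-/

set_option autoImplicit false
set_option backward.isDefEq.respectTransparency false
set_option maxHeartbeats 1000000
universe u

open IsLocalRing TensorProduct

namespace Groth.Agent.RegHomLib

variable {R Λ : Type u} [CommRing R] [CommRing Λ] [Algebra R Λ]

/-- Tensoring a regular map with a field quasi-finite over the base gives a regular Noetherian ring. -/
theorem regular_tensor_field (h : CAlg.IsRegularHom R Λ) (K : Type u) [Field K] [Algebra R K]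
    [Algebra.QuasiFinite R K] : IsNoetherianRing (K ⊗[R] Λ) ∧ IsRegularRing (K ⊗[R] Λ) := by
  let P : Ideal R := RingHom.ker (algebraMap R K)
  haveI : P.IsPrime := RingHom.ker_isPrime _
  let κ := P.ResidueField
  letI : Algebra κ K := (Ideal.ResidueField.lift P (algebraMap R K) le_rfl (fun x hx => by
    show IsUnit (algebraMap R K x)
    exact isUnit_iff_ne_zero.2 hx)).toAlgebra
  haveI : IsScalarTower R κ K := IsScalarTower.of_algebraMap_eq fun r =>
    (Ideal.ResidueField.lift_algebraMap P (algebraMap R K) _ _ r).symm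
  haveI : Algebra.QuasiFinite κ K := Algebra.QuasiFinite.of_restrictScalars R κ K
  haveI hfin : Module.Finite κ K := Module.Finite.of_quasiFinite
  haveI := (h.2 P).1
  haveI : IsRegularRing (K ⊗[κ] (P.Fiber Λ)) := (h.2 P).2 K hfin
  letI : Algebra (P.Fiber Λ) (K ⊗[κ] (P.Fiber Λ)) := Algebra.TensorProduct.rightAlgebra
  haveI : Module.Finite (P.Fiber Λ) (K ⊗[κ] (P.Fiber Λ)) :=
    Module.Finite.equiv (Algebra.TensorProduct.commRight κ (P.Fiber Λ) K).toLinearEquiv
  haveI : IsNoetherianRing (K ⊗[κ] (P.Fiber Λ)) := IsNoetherianRing.of_finite (P.Fiber Λ) _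
  let e := (Algebra.TensorProduct.cancelBaseChange R κ K K Λ).toRingEquiv
  exact ⟨isNoetherianRing_of_ringEquiv (K ⊗[κ] (P.Fiber Λ)) e, IsRegularRing.of_ringEquiv (R := K ⊗[κ] (P.Fiber Λ)) e⟩

/-- A criterion for regular maps. -/
theorem isRegularHom_of_fields [Module.Flat R Λ]
    (hN : ∀ (p : Ideal R) [p.IsPrime], IsNoetherianRing (p.Fiber Λ))
    (hR : ∀ (K : Type u) [Field K] [Algebra R K], Algebra.QuasiFinite R K → IsNoetherianRing (K ⊗[R] Λ) →
      IsRegularRing (K ⊗[R] Λ)) : CAlg.IsRegularHom R Λ := by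
  refine ⟨inferInstance, fun p _ => ⟨hN p, fun k' _ _ hfin => ?_⟩⟩
  let κ := p.ResidueField
  letI : Algebra R k' := ((algebraMap κ k').comp (algebraMap R κ)).toAlgebra
  haveI : IsScalarTower R κ k' := IsScalarTower.of_algebraMap_eq fun _ => rfl
  haveI : Module.Finite κ k' := hfin
  haveI := hN p
  haveI : Algebra.QuasiFinite R k' := Algebra.QuasiFinite.trans R κ k'
  haveI : IsNoetherianRing (k' ⊗[κ] (p.Fiber Λ)) := by
    letI : Algebra (p.Fiber Λ) (k' ⊗[κ] (p.Fiber Λ)) := Algebra.TensorProduct.rightAlgebra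
    haveI : Module.Finite (p.Fiber Λ) (k' ⊗[κ] (p.Fiber Λ)) :=
      Module.Finite.equiv (Algebra.TensorProduct.commRight κ (p.Fiber Λ) k').toLinearEquiv
    exact IsNoetherianRing.of_finite (p.Fiber Λ) _
  let e := (Algebra.TensorProduct.cancelBaseChange R κ k' k' Λ).toRingEquiv
  haveI := hR k' inferInstance (isNoetherianRing_of_ringEquiv (k' ⊗[κ] (p.Fiber Λ)) e)
  exact IsRegularRing.of_ringEquiv (R := k' ⊗[R] Λ) e.symm

/-- Localising the target, then the source, of a regular map. -/
theorem isRegularHom_localization (h : CAlg.IsRegularHom R Λ) (S : Submonoid R) (R' : Type u) [CommRing R']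
    [Algebra R R'] [IsLocalization S R'] (M : Submonoid Λ) (Λ' : Type u) [CommRing Λ'] [Algebra Λ Λ']
    [IsLocalization M Λ'] [Algebra R Λ'] [IsScalarTower R Λ Λ'] [Algebra R' Λ'] [IsScalarTower R R' Λ'] :
    CAlg.IsRegularHom R' Λ' := by
  haveI := h.1
  haveI : Module.Flat Λ Λ' := IsLocalization.flat Λ' M
  haveI : Module.Flat R Λ' := Module.Flat.trans R Λ Λ'
  haveI : Module.Flat R' Λ' := by
    haveI := IsLocalization.tensorProduct_compatibleSMul S R' R' Λ'
    exact Module.Flat.of_linearEquiv (R := R') (M := R' ⊗[R] Λ')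
      ((TensorProduct.equivOfCompatibleSMul R R' R' R' Λ').symm.trans (TensorProduct.lid R' Λ')).symm
  haveI : Algebra.QuasiFinite R R' := Algebra.QuasiFinite.of_isLocalization S
  have key : ∀ (K : Type u) [Field K] [Algebra R' K], Algebra.QuasiFinite R' K →
      IsNoetherianRing (K ⊗[R'] Λ') ∧ IsRegularRing (K ⊗[R'] Λ') := by
    intro K _ _ _
    letI : Algebra R K := ((algebraMap R' K).comp (algebraMap R R')).toAlgebra
    haveI : IsScalarTower R R' K := IsScalarTower.of_algebraMap_eq fun _ => rfl
    haveI : Algebra.QuasiFinite R K := Algebra.QuasiFinite.trans R R' K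
    obtain ⟨hn, hr⟩ := regular_tensor_field h K
    letI : Algebra Λ (K ⊗[R] Λ) := Algebra.TensorProduct.rightAlgebra
    letI : Algebra (K ⊗[R] Λ) (K ⊗[R] Λ') :=
      (Algebra.TensorProduct.map (AlgHom.id R K) (IsScalarTower.toAlgHom R Λ Λ')).toRingHom.toAlgebra
    haveI := isLocalization_tensor R K Λ Λ' M
    haveI := IsLocalization.tensorProduct_compatibleSMul S R' K Λ'
    let e := (Algebra.TensorProduct.equivOfCompatibleSMul R R' R K Λ').symm.toRingEquiv
    haveI := IsLocalization.isNoetherianRing (Algebra.algebraMapSubmonoid (K ⊗[R] Λ) M) (K ⊗[R] Λ') hn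
    haveI := CyclicRootLib.isRegularRing_of_isLocalization (Algebra.algebraMapSubmonoid (K ⊗[R] Λ) M) (K ⊗[R] Λ')
    exact ⟨isNoetherianRing_of_ringEquiv (K ⊗[R] Λ') e, IsRegularRing.of_ringEquiv (R := K ⊗[R] Λ') e⟩
  exact isRegularHom_of_fields (fun p _ => (key p.ResidueField inferInstance).1) fun K _ _ hK _ => (key K hK).2

/-- Regularity may be checked at maximal ideals of the target. -/
theorem isRegularHom_of_maximal [IsNoetherianRing Λ]
    (h : ∀ (n : Ideal Λ) [n.IsMaximal],
      letI := (Localization.localRingHom (Ideal.comap (algebraMap R Λ) n) n (algebraMap R Λ) rfl).toAlgebra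
      CAlg.IsRegularHom (Localization.AtPrime (Ideal.comap (algebraMap R Λ) n)) (Localization.AtPrime n)) :
    CAlg.IsRegularHom R Λ := by
  haveI : Module.Flat R Λ := by
    refine Module.flat_of_isLocalized_maximal Λ Λ (fun n => Localization.AtPrime n)
      (fun n _ => IsScalarTower.toAlgHom Λ Λ _ |>.toLinearMap) fun n hn => ?_
    let p := Ideal.comap (algebraMap R Λ) n
    letI := (Localization.localRingHom p n (algebraMap R Λ) rfl).toAlgebra
    haveI : IsScalarTower R (Localization.AtPrime p) (Localization.AtPrime n) := IsScalarTower.of_algebraMap_eq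
      fun r => (Localization.localRingHom_to_map p n (algebraMap R Λ) rfl r).symm
    haveI := (h n).1
    exact Module.Flat.trans R (Localization.AtPrime p) (Localization.AtPrime n)
  refine isRegularHom_of_fields (fun p _ => ?_) fun K _ _ _ hKn => isRegularRing_iff.2 fun Q _ => ?_
  · haveI : Algebra.EssFiniteType R p.ResidueField := inferInstance
    haveI : IsNoetherianRing (Λ ⊗[R] p.ResidueField) := Algebra.EssFiniteType.isNoetherianRing Λ _
    exact isNoetherianRing_of_ringEquiv _ (Algebra.TensorProduct.comm R Λ p.ResidueField).toRingEquiv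
  let q : Ideal Λ := Q.comap (Algebra.TensorProduct.includeRight : Λ →ₐ[R] K ⊗[R] Λ)
  haveI : q.IsPrime := Ideal.IsPrime.comap _
  obtain ⟨n, hn, hqn⟩ := Ideal.exists_le_maximal q (Ideal.IsPrime.ne_top inferInstance)
  haveI := hn
  let p := Ideal.comap (algebraMap R Λ) n
  have hker : ∀ r : R, algebraMap R K r = 0 → r ∈ p := fun r hr => hqn (by
    show (1 : K) ⊗ₜ[R] algebraMap R Λ r ∈ Q
    rw [Algebra.algebraMap_eq_smul_one, ← TensorProduct.smul_tmul, ← Algebra.algebraMap_eq_smul_one, hr,
      TensorProduct.zero_tmul]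
    exact zero_mem _)
  letI : Algebra (Localization.AtPrime p) K := (IsLocalization.lift (M := p.primeCompl) (g := algebraMap R K)
    fun y => isUnit_iff_ne_zero.2 fun h0 => y.2 (hker _ h0)).toAlgebra
  haveI : IsScalarTower R (Localization.AtPrime p) K := IsScalarTower.of_algebraMap_eq fun r =>
    (IsLocalization.lift_eq _ r).symm
  letI := (Localization.localRingHom p n (algebraMap R Λ) rfl).toAlgebra
  haveI : IsScalarTower R (Localization.AtPrime p) (Localization.AtPrime n) := IsScalarTower.of_algebraMap_eq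
    fun r => (Localization.localRingHom_to_map p n (algebraMap R Λ) rfl r).symm
  haveI : Algebra.QuasiFinite (Localization.AtPrime p) K := Algebra.QuasiFinite.of_restrictScalars R _ K
  obtain ⟨-, hr⟩ := regular_tensor_field (h n) K
  haveI := IsLocalization.tensorProduct_compatibleSMul p.primeCompl (Localization.AtPrime p) K (Localization.AtPrime n)
  haveI : IsRegularRing (K ⊗[R] Localization.AtPrime n) :=
    IsRegularRing.of_ringEquiv (R := K ⊗[Localization.AtPrime p] Localization.AtPrime n)
      (Algebra.TensorProduct.equivOfCompatibleSMul R (Localization.AtPrime p) R K (Localization.AtPrime n)).toRingEquiv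
  letI : Algebra Λ (K ⊗[R] Λ) := Algebra.TensorProduct.rightAlgebra
  letI : Algebra (K ⊗[R] Λ) (K ⊗[R] Localization.AtPrime n) :=
    (Algebra.TensorProduct.map (AlgHom.id R K) (IsScalarTower.toAlgHom R Λ (Localization.AtPrime n))).toRingHom.toAlgebra
  let M := Algebra.algebraMapSubmonoid (K ⊗[R] Λ) n.primeCompl
  haveI : IsLocalization M (K ⊗[R] Localization.AtPrime n) :=
    isLocalization_tensor R K Λ (Localization.AtPrime n) n.primeCompl
  have hdisj : Disjoint (M : Set (K ⊗[R] Λ)) (Q : Set (K ⊗[R] Λ)) :=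
    Set.disjoint_left.2 fun x ⟨s, hs, e⟩ hx => by subst e; exact hs (hqn hx)
  let N : PrimeSpectrum (K ⊗[R] Localization.AtPrime n) :=
    ⟨Q.map (algebraMap _ _), IsLocalization.isPrime_of_isPrime_disjoint M _ Q inferInstance hdisj⟩
  have h1 := (RegLocLib.mem_regLocus_iff_of_isLocalization M N).1
    (@IsRegularRing.isRegularLocalRing_localization _ _ _ N.asIdeal N.isPrime)
  have h2 : PrimeSpectrum.comap (algebraMap (K ⊗[R] Λ) (K ⊗[R] Localization.AtPrime n)) N = ⟨Q, inferInstance⟩ :=
    PrimeSpectrum.ext (IsLocalization.under_map_of_isPrime_disjoint M _ inferInstance hdisj)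
  rw [h2] at h1
  exact h1

end Groth.Agent.RegHomLib
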