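import Groth.Agent.RegHomLib.Basic
import Groth.Agent.SymGrLib.GeomRegular
import Groth.Agent.S4573

/-!
# Geometric regularity survives every Noetherian field extension
-/

set_option autoImplicit false
set_option backward.isDefEq.respectTransparency false
set_option maxHeartbeats 1000000
universe u

open IsLocalRing TensorProduct

namespace Groth.Agent.RegHomLib

theorem isAdicFormallySmooth_atPrime {k R : Type u} [CommRing k] [CommRing R] [Algebra k R] (N : Ideal R)
    [N.IsPrime] (h : CAlgX.IsAdicFormallySmooth k R N) :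
    CAlgX.IsAdicFormallySmooth k (Localization.AtPrime N) (maximalIdeal (Localization.AtPrime N)) := by
  intro D _ _ J hJ ψ hψ
  obtain ⟨m, hm⟩ := hψ
  let ι := IsScalarTower.toAlgHom k R (Localization.AtPrime N)
  obtain ⟨χ, hχ⟩ := h D J hJ (ψ.comp ι) ⟨m, fun x hx => hm _ (by
    rw [← Localization.AtPrime.map_eq_maximalIdeal, ← Ideal.map_pow]
    exact Ideal.mem_map_of_mem _ hx)⟩
  have hu : ∀ y : N.primeCompl, IsUnit (χ (y : R)) := fun y => by
    have h1 : IsUnit (Ideal.Quotient.mk J (χ (y : R))) := by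
      have := AlgHom.congr_fun hχ (y : R)
      change Ideal.Quotient.mk J (χ (y : R)) = ψ (algebraMap R _ (y : R)) at this
      rw [this]
      exact (IsLocalization.map_units (Localization.AtPrime N) y).map ψ
    exact IsNilpotent.isUnit_quotient_mk_iff ⟨2, hJ⟩ |>.1 h1
  refine ⟨IsLocalization.liftAlgHom (M := N.primeCompl) (f := χ) hu, ?_⟩
  refine AlgHom.coe_ringHom_injective (IsLocalization.ringHom_ext N.primeCompl (RingHom.ext fun x => ?_))
  show Ideal.Quotient.mk J (IsLocalization.lift hu (algebraMap R _ x)) = ψ (algebraMap R _ x)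
  rw [IsLocalization.lift_eq]
  exact AlgHom.congr_fun hχ x

theorem isLocalization_tensor (k K A Aq : Type u) [CommRing k] [CommRing K] [Algebra k K] [CommRing A] [Algebra k A]
    [CommRing Aq] [Algebra A Aq] [Algebra k Aq] [IsScalarTower k A Aq] (S : Submonoid A) [IsLocalization S Aq] :
    letI : Algebra A (K ⊗[k] A) := Algebra.TensorProduct.rightAlgebra
    letI : Algebra (K ⊗[k] A) (K ⊗[k] Aq) :=
      (Algebra.TensorProduct.map (AlgHom.id k K) (IsScalarTower.toAlgHom k A Aq)).toRingHom.toAlgebra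
    IsLocalization (Algebra.algebraMapSubmonoid (K ⊗[k] A) S) (K ⊗[k] Aq) := by
  letI : Algebra A (K ⊗[k] A) := Algebra.TensorProduct.rightAlgebra
  letI : Algebra (K ⊗[k] A) (K ⊗[k] Aq) :=
    (Algebra.TensorProduct.map (AlgHom.id k K) (IsScalarTower.toAlgHom k A Aq)).toRingHom.toAlgebra
  letI : Algebra (K ⊗[k] A) (Aq ⊗[A] (K ⊗[k] A)) := Algebra.TensorProduct.rightAlgebra
  let e : Aq ⊗[A] (K ⊗[k] A) ≃+* K ⊗[k] Aq :=
    ((Algebra.TensorProduct.congr (AlgEquiv.refl : Aq ≃ₐ[A] Aq) (Algebra.TensorProduct.commRight k A K).symm).toRingEquiv.trans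
      ((Algebra.TensorProduct.cancelBaseChange k A A Aq K).toRingEquiv.trans
        (Algebra.TensorProduct.comm k Aq K).toRingEquiv))
  haveI : IsLocalization (Algebra.algebraMapSubmonoid (K ⊗[k] A) S) (Aq ⊗[A] (K ⊗[k] A)) := inferInstance
  refine IsLocalization.isLocalization_of_algEquiv (Algebra.algebraMapSubmonoid (K ⊗[k] A) S)
    (S := Aq ⊗[A] (K ⊗[k] A)) (AlgEquiv.ofRingEquiv (f := e) fun z => ?_)
  show e ((1 : Aq) ⊗ₜ[A] z) = Algebra.TensorProduct.map (AlgHom.id k K) (IsScalarTower.toAlgHom k A Aq) z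
  induction z using TensorProduct.induction_on with
  | zero => simp
  | add a b ha hb => rw [TensorProduct.tmul_add, map_add, map_add, ha, hb]
  | tmul c a => simp [e, Algebra.smul_def]

/-- A geometrically regular algebra stays regular under every field extension with Noetherian base change. -/
theorem isRegularRing_tensor_of_geometricallyRegular {k A : Type u} [Field k] [CommRing A] [Algebra k A]
    [IsNoetherianRing A] (h : CAlg.IsGeometricallyRegular k A) (K : Type u) [Field K] [Algebra k K]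
    [IsNoetherianRing (K ⊗[k] A)] : IsRegularRing (K ⊗[k] A) := by
  refine isRegularRing_iff.2 fun Q _ => ?_
  let q : Ideal A := Q.comap (Algebra.TensorProduct.includeRight : A →ₐ[k] K ⊗[k] A)
  haveI : q.IsPrime := Ideal.IsPrime.comap _
  let Aq := Localization.AtPrime q
  haveI : IsNoetherianRing Aq := IsLocalization.isNoetherianRing q.primeCompl _ inferInstance
  obtain ⟨e, _⟩ := ExpChar.exists k
  have hq : CAlgX.IsAdicFormallySmooth k Aq (maximalIdeal Aq) := by
    rw [S4573.result e]
    intro k' _ _ hfin _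
    haveI := h k' hfin
    letI : Algebra A (k' ⊗[k] A) := Algebra.TensorProduct.rightAlgebra
    letI : Algebra (k' ⊗[k] A) (k' ⊗[k] Aq) :=
      (Algebra.TensorProduct.map (AlgHom.id k k') (IsScalarTower.toAlgHom k A Aq)).toRingHom.toAlgebra
    haveI : IsLocalization (Algebra.algebraMapSubmonoid (k' ⊗[k] A) q.primeCompl) (k' ⊗[k] Aq) :=
      isLocalization_tensor k k' A Aq q.primeCompl
    exact CyclicRootLib.isRegularRing_of_isLocalization (Algebra.algebraMapSubmonoid (k' ⊗[k] A) q.primeCompl) _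
  letI : Algebra A (K ⊗[k] A) := Algebra.TensorProduct.rightAlgebra
  letI : Algebra (K ⊗[k] A) (K ⊗[k] Aq) :=
    (Algebra.TensorProduct.map (AlgHom.id k K) (IsScalarTower.toAlgHom k A Aq)).toRingHom.toAlgebra
  let M := Algebra.algebraMapSubmonoid (K ⊗[k] A) q.primeCompl
  haveI : IsLocalization M (K ⊗[k] Aq) := isLocalization_tensor k K A Aq q.primeCompl
  haveI : IsNoetherianRing (K ⊗[k] Aq) := IsLocalization.isNoetherianRing M _ inferInstance
  have hdisj : Disjoint (M : Set (K ⊗[k] A)) (Q : Set (K ⊗[k] A)) :=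
    Set.disjoint_left.2 fun x ⟨s, hs, e⟩ hx => by subst e; exact hs hx
  let N := Q.map (algebraMap (K ⊗[k] A) (K ⊗[k] Aq))
  haveI hN : N.IsPrime := IsLocalization.isPrime_of_isPrime_disjoint M _ Q inferInstance hdisj
  haveI : IsNoetherianRing (Localization.AtPrime N) := IsLocalization.isNoetherianRing N.primeCompl _ inferInstance
  have hNM : (maximalIdeal Aq).map (Algebra.TensorProduct.includeRight : Aq →ₐ[k] K ⊗[k] Aq) ≤ N := by
    rw [← Localization.AtPrime.map_eq_maximalIdeal, ← Ideal.map_coe (Algebra.TensorProduct.includeRight : Aq →ₐ[k] K ⊗[k] Aq),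
      Ideal.map_map, Ideal.map_le_iff_le_comap]
    intro x hx
    refine Ideal.mem_comap.2 ?_
    have h1 : algebraMap (K ⊗[k] A) (K ⊗[k] Aq) ((1 : K) ⊗ₜ[k] x) ∈ N := Ideal.mem_map_of_mem _ hx
    simpa [RingHom.algebraMap_toAlgebra] using h1
  letI : Algebra K (K ⊗[k] Aq) := Algebra.TensorProduct.leftAlgebra
  have hFS := isAdicFormallySmooth_atPrime N (SymGrLib.isAdicFormallySmooth_baseChange hq K N hNM)
  have h2 : IsRegularLocalRing (Localization.AtPrime N) := (S2471.result.1 hFS).1
  have h1 := (RegLocLib.mem_regLocus_iff_of_isLocalization M (⟨N, hN⟩ : PrimeSpectrum (K ⊗[k] Aq))).1 h2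
  have h3 : PrimeSpectrum.comap (algebraMap (K ⊗[k] A) (K ⊗[k] Aq)) ⟨N, hN⟩ = ⟨Q, inferInstance⟩ :=
    PrimeSpectrum.ext (IsLocalization.under_map_of_isPrime_disjoint M _ inferInstance hdisj)
  rw [h3] at h1
  exact h1

end Groth.Agent.RegHomLib
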